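import Mathlib
import Groth.Agent.RG.Dev.CorepTop
import Groth.Agent.RG.Dev.CorepFibre
import Groth.Agent.MLMod.FlatNil
import Groth.Agent.InjFibre.Loc

/-!
Flatness along a closed subscheme from flatness of all the infinitesimal neighbourhoods (EGA IV 11.2.9).
-/

set_option autoImplicit false
set_option linter.style.haveILetI false

universe u

namespace Groth.Agent.FlatGr

open TensorProduct IsLocalRing
open Groth.Agent.RG.Dev.Corep

/-- Base change of the quotient by `I • ⊤`. -/
theorem exists_quot_equiv {T L : Type u} [CommRing T] [CommRing L] [Algebra T L] (I : Ideal T)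
    (N : Type u) [AddCommGroup N] [Module T N] :
    Nonempty (((L ⊗[T] N) ⧸ I.map (algebraMap T L) • (⊤ : Submodule L (L ⊗[T] N))) ≃ₗ[L]
      L ⊗[T] (N ⧸ I • (⊤ : Submodule T N))) := by
  let g : L ⊗[T] N →ₗ[L] L ⊗[T] (N ⧸ I • (⊤ : Submodule T N)) :=
    AlgebraTensorModule.lTensor L L (I • (⊤ : Submodule T N)).mkQ
  have hg : Function.Surjective g := LinearMap.lTensor_surjective L (Submodule.mkQ_surjective _)
  have hkill : ∀ a ∈ I, ∀ z : L ⊗[T] (N ⧸ I • (⊤ : Submodule T N)), algebraMap T L a • z = 0 := by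
    intro a ha z
    rw [algebraMap_smul]
    induction z using TensorProduct.induction_on with
    | zero => rw [smul_zero]
    | add x y hx hy => rw [smul_add, hx, hy, add_zero]
    | tmul l y =>
      obtain ⟨n, rfl⟩ := Submodule.mkQ_surjective _ y
      rw [← TensorProduct.tmul_smul, ← map_smul, Submodule.mkQ_apply,
        (Submodule.Quotient.mk_eq_zero _).2 (Submodule.smul_mem_smul ha Submodule.mem_top), TensorProduct.tmul_zero]
  have hker : LinearMap.ker g = I.map (algebraMap T L) • (⊤ : Submodule L (L ⊗[T] N)) := by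
    refine le_antisymm (fun z hz => ?_) ?_
    · have hex : Function.Exact (I • (⊤ : Submodule T N)).subtype (I • (⊤ : Submodule T N)).mkQ := fun y => by
        simp [Submodule.Quotient.mk_eq_zero]
      obtain ⟨w, rfl⟩ := ((lTensor_exact L hex (Submodule.mkQ_surjective _)) z).1 hz
      clear hz
      induction w using TensorProduct.induction_on with
      | zero => rw [map_zero]; exact Submodule.zero_mem _
      | add x y hx hy => rw [map_add]; exact Submodule.add_mem _ hx hy
      | tmul l y =>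
        obtain ⟨y, hy⟩ := y
        rw [LinearMap.lTensor_tmul, Submodule.subtype_apply]
        induction hy using Submodule.smul_induction_on' with
        | smul a ha n _ =>
          rw [TensorProduct.tmul_smul, ← algebraMap_smul L a (l ⊗ₜ[T] n)]
          exact Submodule.smul_mem_smul (Ideal.mem_map_of_mem _ ha) Submodule.mem_top
        | add x _ y _ hx hy => rw [TensorProduct.tmul_add]; exact Submodule.add_mem _ hx hy
    · refine Submodule.smul_le.2 fun r hr n _ => ?_
      rw [LinearMap.mem_ker, map_smul]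
      refine Submodule.span_induction (p := fun r _ => r • g n = 0) ?_ (zero_smul _ _)
        (fun x y _ _ hx hy => by rw [add_smul, hx, hy, add_zero])
        (fun c x _ hx => by rw [smul_assoc, hx, smul_zero]) hr
      rintro _ ⟨a, ha, rfl⟩
      exact hkill a ha _
  exact ⟨(Submodule.quotEquivOfEq _ _ hker.symm).trans (g.quotKerEquivOfSurjective hg)⟩

/-- Injectivity of `I ⊗ X → X` from flatness of all the `X/J^kX` and Krull's intersection theorem. -/
theorem lTensor_injective {R L X : Type u} [CommRing R] [CommRing L] [Algebra R L] [IsLocalRing L]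
    [AddCommGroup X] [Module L X] [Module R X] [IsScalarTower R L X] [Module.Finite L X]
    (I : Ideal R) (hI : I.FG) (m : Ideal R) (hm : ∀ r ∈ m, ∀ a ∈ I, r * a = 0)
    [IsNoetherianRing (L ⧸ m.map (algebraMap R L))] (hmL : m.map (algebraMap R L) ≠ ⊤)
    (J : Ideal L) (hJ : J ≤ maximalIdeal L)
    (h : ∀ k : ℕ, Module.Flat R (X ⧸ J ^ k • (⊤ : Submodule L X))) :
    Function.Injective (I.subtype.lTensor X) := by
  haveI : Module.Finite R I := Module.Finite.of_fg hI
  haveI : Module.Finite L (X ⊗[R] I) := by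
    haveI : Module.Finite L (X ⊗[L] (L ⊗[R] I)) := inferInstance
    exact Module.Finite.equiv (AlgebraTensorModule.cancelBaseChange R L L X I)
  set K := m.map (algebraMap R L)
  have hK : ∀ r ∈ K, ∀ z : X ⊗[R] I, r • z = 0 := by
    intro r hr z
    refine Submodule.span_induction (p := fun r _ => r • z = 0) ?_ (zero_smul _ _)
      (fun x y _ _ hx hy => by rw [add_smul, hx, hy, add_zero])
      (fun c x _ hx => by rw [smul_assoc, hx, smul_zero]) hr
    rintro _ ⟨r, hr, rfl⟩
    rw [algebraMap_smul]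
    induction z using TensorProduct.induction_on with
    | zero => rw [smul_zero]
    | add x y hx hy => rw [smul_add, hx, hy, add_zero]
    | tmul x a =>
      rw [← TensorProduct.tmul_smul, show r • a = 0 from Subtype.ext (hm r hr a a.2), TensorProduct.tmul_zero]
  have htors : Module.IsTorsionBySet L (X ⊗[R] I) (K : Set L) := fun z r => hK r.1 r.2 z
  letI := htors.module
  haveI : IsScalarTower L (L ⧸ K) (X ⊗[R] I) := htors.isScalarTower
  haveI : Module.Finite (L ⧸ K) (X ⊗[R] I) := Module.Finite.of_restrictScalars_finite L _ _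
  haveI : Nontrivial (L ⧸ K) := Ideal.Quotient.nontrivial_iff.2 hmL
  haveI : IsLocalRing (L ⧸ K) := IsLocalRing.of_surjective' _ Ideal.Quotient.mk_surjective
  have hJK : J.map (Ideal.Quotient.mk K) ≠ ⊤ := fun ht => by
    have h1 := Ideal.comap_map_of_surjective (Ideal.Quotient.mk K) Ideal.Quotient.mk_surjective J
    rw [ht, Ideal.comap_top] at h1
    have h2 : Ideal.comap (Ideal.Quotient.mk K) (⊥ : Ideal (L ⧸ K)) = K := by
      rw [← RingHom.ker_eq_comap_bot]; exact Ideal.mk_ker
    rw [h2] at h1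
    exact (maximalIdeal.isMaximal L).ne_top (top_le_iff.1 (h1.le.trans (sup_le hJ (le_maximalIdeal hmL))))
  have hkrull := Ideal.iInf_pow_smul_eq_bot_of_isLocalRing (J.map (Ideal.Quotient.mk K)) (M := X ⊗[R] I) hJK
  rw [injective_iff_map_eq_zero]
  intro z hz
  have hmem : z ∈ (⨅ k : ℕ, J.map (Ideal.Quotient.mk K) ^ k • (⊤ : Submodule (L ⧸ K) (X ⊗[R] I))) := by
    rw [Submodule.mem_iInf]
    intro k
    let P : Submodule L X := J ^ k • ⊤
    have hex : Function.Exact (P.subtype.restrictScalars R) (P.mkQ.restrictScalars R) := fun y => by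
      simp [Submodule.Quotient.mk_eq_zero]
    haveI := h k
    have h0 : (P.mkQ.restrictScalars R).rTensor I z = 0 := by
      refine Module.Flat.lTensor_preserves_injective_linearMap (M := X ⧸ P) I.subtype Subtype.val_injective ?_
      rw [map_zero, ← LinearMap.comp_apply, LinearMap.lTensor_comp_rTensor,
        ← LinearMap.rTensor_comp_lTensor, LinearMap.comp_apply, hz, map_zero]
    obtain ⟨w, rfl⟩ := ((rTensor_exact I hex (Submodule.mkQ_surjective P)) z).1 h0
    clear h0 hz
    induction w using TensorProduct.induction_on with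
    | zero => rw [map_zero]; exact Submodule.zero_mem _
    | add x y hx hy => rw [map_add]; exact Submodule.add_mem _ hx hy
    | tmul y a =>
      obtain ⟨y, hy⟩ := y
      rw [LinearMap.rTensor_tmul]
      show y ⊗ₜ[R] a ∈ _
      clear hex
      induction hy using Submodule.smul_induction_on' with
      | smul c hc n _ =>
        rw [← TensorProduct.smul_tmul', ← algebraMap_smul (L ⧸ K) c (n ⊗ₜ[R] a), ← Ideal.map_pow]
        exact Submodule.smul_mem_smul (Ideal.mem_map_of_mem _ hc) Submodule.mem_top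
      | add x _ y _ hx hy => rw [TensorProduct.add_tmul]; exact Submodule.add_mem _ hx hy
  rw [hkrull] at hmem
  exact (Submodule.mem_bot _).1 hmem

/-- Henselian local form of EGA IV 11.2.9. -/
theorem flat_at_of_henselian {R T : Type u} [CommRing R] [HenselianLocalRing R] [CommRing T] [Algebra R T]
    [Algebra.FinitePresentation R T] (N : Type u) [AddCommGroup N] [Module T N] [Module R N] [IsScalarTower R T N]
    [Module.FinitePresentation T N] (J : Ideal T) (P : Ideal T) [P.IsPrime]
    [P.LiesOver (maximalIdeal R)] (hJ : J ≤ P)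
    (h : ∀ k : ℕ, Module.Flat R (N ⧸ J ^ k • (⊤ : Submodule T N))) :
    Module.Flat R (LocalizedModule P.primeCompl N) := by
  classical
  by_cases hs : (⟨P, ‹_›⟩ : PrimeSpectrum T) ∈ Module.support T N
  swap
  · haveI : Subsingleton (LocalizedModule P.primeCompl N) := LocalizedModule.subsingleton_iff.2 fun n => by
      obtain ⟨r, hr, hrn⟩ := Module.notMem_support_iff'.1 hs n
      exact ⟨r, hr, hrn⟩
    infer_instance
  obtain ⟨I, hI, hIfg⟩ := exists_corep_model (A := R) N P hs
  have hfg : I.FG := hIfg inferInstance inferInstance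
  -- the ideal is contained in the maximal ideal
  have hIm : I ≤ maximalIdeal R := by
    let k := R ⧸ maximalIdeal R
    letI : Field k := Ideal.Quotient.field _
    haveI : IsLocalHom (algebraMap R k) := IsLocalHom.of_surjective _ Ideal.Quotient.mk_surjective
    obtain ⟨T₁, _, _, _, _, _, _, hpo, -⟩ := exists_quot_bc (maximalIdeal R) T
    haveI := hpo
    have h1 : I.map (algebraMap R k) = ⊥ := (hI k T₁).1 fun Q _ _ _ => inferInstance
    rwa [Ideal.map_eq_bot_iff_le_ker, Ideal.Quotient.algebraMap_eq, Ideal.mk_ker] at h1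
  suffices hbot : I = ⊥ by
    haveI : IsLocalHom (algebraMap R R) := ⟨fun a ha => ha⟩
    haveI : Algebra.IsPushout R R T T := ⟨by
      convert IsBaseChange.ofEquiv (LinearEquiv.refl R T)
      ext x; simp⟩
    haveI := (hI R T).2 (by rw [hbot]; exact Ideal.map_bot) P (Ideal.comap_id P) (Ideal.over_def P (maximalIdeal R)).symm
    haveI : IsLocalizedModule P.primeCompl
        ((LocalizedModule.mkLinearMap P.primeCompl (T ⊗[T] N)) ∘ₗ (TensorProduct.lid T N).symm.toLinearMap) :=
      IsLocalizedModule.of_linearEquiv_right _ _ _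
    exact Module.Flat.of_linearEquiv ((IsLocalizedModule.iso P.primeCompl
      ((LocalizedModule.mkLinearMap P.primeCompl (T ⊗[T] N)) ∘ₗ (TensorProduct.lid T N).symm.toLinearMap)).restrictScalars R)
  -- Nakayama over the test ring `R/mI`
  let m := maximalIdeal R
  by_contra hne
  have hmI : m * I ≤ m := Ideal.mul_le_left
  let R₂ := R ⧸ m * I
  haveI : Nontrivial R₂ := Ideal.Quotient.nontrivial_iff.2 fun ht =>
    (maximalIdeal.isMaximal R).ne_top (top_le_iff.1 (ht ▸ hmI))
  haveI : IsLocalRing R₂ := IsLocalRing.of_surjective' _ Ideal.Quotient.mk_surjective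
  haveI : IsLocalHom (algebraMap R R₂) := IsLocalHom.of_surjective _ Ideal.Quotient.mk_surjective
  obtain ⟨T₂, _, _, _, _, _, _, hpo, hsurj⟩ := exists_quot_bc (m * I) T
  haveI := hpo
  suffices hkey : I.map (algebraMap R R₂) = ⊥ by
    rw [Ideal.map_eq_bot_iff_le_ker, Ideal.Quotient.algebraMap_eq, Ideal.mk_ker] at hkey
    exact hne (Submodule.eq_bot_of_le_smul_of_le_jacobson_bot m I hfg hkey
      (IsLocalRing.maximalIdeal_le_jacobson ⊥))
  refine (hI R₂ T₂).1 fun Q _ hQP hQm => ?_
  let I₂ : Ideal R₂ := I.map (algebraMap R R₂)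
  let m₂ : Ideal R₂ := maximalIdeal R₂
  have hm₂ : m₂ = m.map (algebraMap R R₂) := by
    refine le_antisymm (fun x hx => ?_) (Ideal.map_le_iff_le_comap.2 (IsLocalRing.maximalIdeal_comap (algebraMap R R₂)).ge)
    obtain ⟨x, rfl⟩ := Ideal.Quotient.mk_surjective x
    exact Ideal.mem_map_of_mem _ ((SetLike.ext_iff.1 (IsLocalRing.maximalIdeal_comap (algebraMap R R₂)) x).1 hx)
  have hz0 : ∀ x ∈ m₂, ∀ a ∈ I₂, x * a = 0 := by
    intro x hx a ha
    have h1 : x * a ∈ (m * I).map (algebraMap R R₂) := by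
      rw [Ideal.map_mul, ← hm₂]; exact Ideal.mul_mem_mul hx ha
    rwa [Ideal.Quotient.algebraMap_eq, Ideal.map_quotient_self, Ideal.mem_bot] at h1
  have hI₂m : I₂ ≤ m₂ := hm₂ ▸ Ideal.map_mono hIm
  let L := Localization.AtPrime Q
  let X := L ⊗[T] N
  -- reduction modulo `I₂`
  let R₃ := R₂ ⧸ I₂
  haveI : Nontrivial R₃ := Ideal.Quotient.nontrivial_iff.2 fun ht =>
    (maximalIdeal.isMaximal R₂).ne_top (top_le_iff.1 (ht ▸ hI₂m))
  haveI : IsLocalRing R₃ := IsLocalRing.of_surjective' _ Ideal.Quotient.mk_surjective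
  haveI : IsLocalHom (algebraMap R₂ R₃) := IsLocalHom.of_surjective _ Ideal.Quotient.mk_surjective
  haveI : IsLocalHom (algebraMap R R₃) := by
    rw [IsScalarTower.algebraMap_eq R R₂ R₃]; infer_instance
  obtain ⟨T₃, _, _, _, _, _, _, hpo₃, hsurj₃⟩ := exists_quot_bc I₂ T₂
  haveI := hpo₃
  letI : Algebra T T₃ := ((algebraMap T₂ T₃).comp (algebraMap T T₂)).toAlgebra
  haveI : IsScalarTower T T₂ T₃ := IsScalarTower.of_algebraMap_eq fun _ => rfl
  letI : Algebra R T₃ := ((algebraMap T T₃).comp (algebraMap R T)).toAlgebra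
  haveI : IsScalarTower R T T₃ := IsScalarTower.of_algebraMap_eq (R := R) (S := T) (A := T₃) fun _ => rfl
  haveI : IsScalarTower R R₂ T₃ := IsScalarTower.of_algebraMap_eq (R := R) (S := R₂) (A := T₃) fun x => by
    show algebraMap T₂ T₃ (algebraMap T T₂ (algebraMap R T x)) = _
    rw [← IsScalarTower.algebraMap_apply R T T₂, IsScalarTower.algebraMap_apply R R₂ T₂,
      ← IsScalarTower.algebraMap_apply R₂ T₂ T₃]
  haveI : IsScalarTower R R₃ T₃ := IsScalarTower.of_algebraMap_eq (R := R) (S := R₃) (A := T₃) fun x => by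
    rw [IsScalarTower.algebraMap_apply R R₂ R₃, ← IsScalarTower.algebraMap_apply R₂ R₃ T₃,
      ← IsScalarTower.algebraMap_apply R R₂ T₃]
  haveI : IsScalarTower R T₂ T₃ := IsScalarTower.of_algebraMap_eq (R := R) (S := T₂) (A := T₃) fun x => by
    rw [IsScalarTower.algebraMap_apply R T T₂]; rfl
  haveI : Algebra.IsPushout R R₃ T T₃ :=
    (Algebra.IsPushout.comp_iff (R := R) (S := R₂) (R' := T) (S' := T₂) (T := R₃) (T' := T₃)).2 inferInstance
  haveI : Q.LiesOver (maximalIdeal R₂) := ⟨hQm.symm⟩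
  obtain ⟨Q₃, hQ₃, hQ₃Q, hQ₃m⟩ := exists_point (R := R₂) (R' := R₃) (B' := T₃) Q
  haveI := hQ₃
  have hfl₃ : Module.Flat R₃ (LocalizedModule Q₃.primeCompl (T₃ ⊗[T] N)) := by
    refine (hI R₃ T₃).2 ?_ Q₃ ?_ hQ₃m
    · rw [IsScalarTower.algebraMap_eq R R₂ R₃, ← Ideal.map_map, Ideal.Quotient.algebraMap_eq I₂,
        Ideal.map_quotient_self]
    · show Q₃.comap ((algebraMap T₂ T₃).comp (algebraMap T T₂)) = P
      rw [← Ideal.comap_comap, hQ₃Q, hQP]
  let X' := LocalizedModule Q.primeCompl (T₂ ⊗[T] N)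
  haveI hmod : Module.Flat R₃ (R₃ ⊗[R₂] X') := by
    refine (flat_localized_quot_iff (R := R₂) (R₁ := R₃) Ideal.Quotient.mk_surjective hsurj₃ (T₂ ⊗[T] N) Q Q₃ hQ₃Q).1 ?_
    let U := Q₃.primeCompl
    let e : T₃ ⊗[T₂] (T₂ ⊗[T] N) ≃ₗ[T₃] T₃ ⊗[T] N := AlgebraTensorModule.cancelBaseChange T T₂ T₃ T₃ N
    haveI := hfl₃
    exact Module.Flat.of_linearEquiv ((IsLocalizedModule.iso U
      ((LocalizedModule.mkLinearMap U (T₃ ⊗[T] N)) ∘ₗ e.toLinearMap)).restrictScalars R₃)
  -- the two descriptions of the localised module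
  let eX : X' ≃ₗ[R₂] X :=
    (((IsLocalizedModule.isBaseChange Q.primeCompl L
      (LocalizedModule.mkLinearMap Q.primeCompl (T₂ ⊗[T] N))).equiv.symm).trans
      (AlgebraTensorModule.cancelBaseChange T T₂ L L N)).restrictScalars R₂
  haveI : Module.Finite T N := inferInstance
  haveI : Module.Flat (R₂ ⧸ I₂) ((R₂ ⧸ I₂) ⊗[R₂] X) :=
    Module.Flat.of_linearEquiv (AlgebraTensorModule.congr (LinearEquiv.refl R₃ R₃) eX.symm)
  suffices Module.Flat R₂ X from Module.Flat.of_linearEquiv eX
  refine Groth.Agent.MLMod.flat_of_nilpotent (M := X) I₂ ⟨2, le_bot_iff.1 ?_⟩ ?_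
  · rw [pow_two]
    exact Ideal.mul_le.2 fun x hx a ha => (Ideal.mem_bot).2 (hz0 x (hI₂m hx) a ha)
  rw [← LinearMap.lTensor_inj_iff_rTensor_inj]
  haveI : Algebra.FinitePresentation R₂ T₂ :=
    Algebra.FinitePresentation.equiv (Algebra.IsPushout.equiv R R₂ T T₂)
  haveI : Algebra.EssFiniteType R₂ (L ⧸ m₂.map (algebraMap R₂ L)) := Algebra.EssFiniteType.comp R₂ L _
  letI : Field (R₂ ⧸ m₂) := Ideal.Quotient.field _
  haveI : Algebra.EssFiniteType (R₂ ⧸ m₂) (L ⧸ m₂.map (algebraMap R₂ L)) :=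
    Algebra.EssFiniteType.of_comp R₂ (R₂ ⧸ m₂) _
  haveI : IsNoetherianRing (L ⧸ m₂.map (algebraMap R₂ L)) :=
    Algebra.EssFiniteType.isNoetherianRing (R₂ ⧸ m₂) _
  have hQ : Q.map (algebraMap T₂ L) = maximalIdeal L := IsLocalization.AtPrime.map_eq_maximalIdeal Q L
  have hmL : m₂.map (algebraMap R₂ L) ≤ maximalIdeal L := by
    rw [IsScalarTower.algebraMap_eq R₂ T₂ L, ← Ideal.map_map, ← hQ]
    exact Ideal.map_mono (Ideal.map_le_iff_le_comap.2 hQm.ge)
  refine lTensor_injective (L := L) I₂ (hfg.map _) m₂ hz0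
    (fun ht => (maximalIdeal.isMaximal L).ne_top (top_le_iff.1 (ht ▸ hmL))) (J.map (algebraMap T L)) ?_ ?_
  · rw [IsScalarTower.algebraMap_eq T T₂ L, ← Ideal.map_map, ← hQ]
    exact Ideal.map_mono (Ideal.map_le_iff_le_comap.2 (hJ.trans hQP.ge))
  · intro k
    rw [← Ideal.map_pow]
    obtain ⟨e⟩ := exists_quot_equiv (L := L) (J ^ k) N
    haveI := h k
    haveI : Module.Flat R₂ (T₂ ⊗[T] (N ⧸ J ^ k • (⊤ : Submodule T N))) :=
      Module.Flat.of_linearEquiv (Algebra.IsPushout.cancelBaseChange R R₂ T T₂ (N ⧸ J ^ k • (⊤ : Submodule T N)))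
    haveI : Module.Flat R₂ (L ⊗[T₂] (T₂ ⊗[T] (N ⧸ J ^ k • (⊤ : Submodule T N)))) :=
      Groth.Agent.InjFibre.flat_localized Q.primeCompl (TensorProduct.mk T₂ L _ 1)
    exact Module.Flat.of_linearEquiv
      ((e.trans (AlgebraTensorModule.cancelBaseChange T T₂ L L _).symm).restrictScalars R₂)

end Groth.Agent.FlatGr
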